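import Groth.Agent.Lib.Helper19.GenFib.Generic
import Groth.Agent.Lib.Helper15.FiniteNear
import Groth.Agent.Lib.Helper15.AlgSpBasic
import Groth.Prelude.Def_AlgSp3

/-!
# Finite morphisms have transcendence degree zero at all points; transfer along open immersions
-/

set_option autoImplicit false
set_option linter.style.haveILetI false
universe u
open CategoryTheory CategoryTheory.Limits AlgebraicGeometry TopologicalSpace
open AlgSp Groth.Agent.Helper15

namespace Groth.Agent.Helper19.GenFib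

variable {S : Scheme.{u}}

/-- a finite morphism has transcendence degree zero at every point -/
theorem hasAtMor_trdeg_zero_of_isFiniteMor {P V : Sp S} (hV : IsAlgSpace V) (φ : P ⟶ V)
    (hφ : IsFiniteMor φ) (p : Points P) :
    HasAtMor (fun _ _ h u => Dual3.resTrdeg h u = 0) φ p := by
  obtain ⟨V₀, b₀, hb₀e, hb₀s⟩ := hV.atlas
  obtain ⟨v₀, hv₀⟩ := surjective_ofPt b₀ hb₀s (Points.map φ p)
  obtain ⟨_, ⟨O₀, hO₀, rfl⟩, hvO₀, -⟩ :=
    (V₀.left.isBasis_affineOpens).exists_subset_of_mem_open (Set.mem_univ v₀) isOpen_univ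
  let O : V₀.left.Opens := O₀
  let Z : Over S := Over.mk (O.ι ≫ V₀.hom)
  let jZ : Z ⟶ V₀ := Over.homMk O.ι rfl
  haveI : IsAffine Z.left := hO₀
  have hjZ : Etale jZ.left := (inferInstance : Etale O.ι)
  have hge : RepWith @Etale ((yon S).map jZ ≫ b₀) :=
    (RepWith @Etale).comp_mem _ _ ((repWith_yon_map_iff _ jZ).2 hjZ) hb₀e
  obtain ⟨W, i, fst, sq, -, hi⟩ := hφ (Z := Z) hO₀ ((yon S).map jZ ≫ b₀)
  haveI : IsFinite i.left := hi
  have hfste : RepWith @Etale fst := (RepWith @Etale).of_isPullback sq.flip hge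
  -- the point
  let z : Z.left := ⟨v₀, hvO₀⟩
  have hz : Points.ofPt ((yon S).map jZ ≫ b₀) z = Points.map φ p := by
    rw [ofPt_comp_yon_map]; exact hv₀
  have hz' : Points.map φ p = Points.map ((yon S).map jZ ≫ b₀) (Points.ofScheme Z z) := by
    rw [← Points.ofPt_eq_map_ofScheme]; exact hz.symm
  obtain ⟨pw, hpw1, hpw2⟩ := exists_point_of_isPullback sq p _ hz'
  obtain ⟨w, rfl⟩ := (Points.schemeEquiv W).surjective pw
  refine ⟨W, Z, fst, (yon S).map jZ ≫ b₀, i, w, hfste, hge, sq.w, ?_, ?_⟩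
  · rw [Points.ofPt_eq_map_ofScheme]; exact hpw1
  · exact Trdeg.resTrdeg_eq_zero_of_locallyQuasiFinite i.left w

/-- transfer of a property at a point along the base change by an open immersion -/
theorem hasAtMor_of_openImmersion_baseChange
    (Q : ∀ (U V : Scheme.{u}), (U ⟶ V) → U → Prop) {P V X Y : Sp S}
    (fst : P ⟶ V) (snd : P ⟶ X) (j : V ⟶ Y) (f : X ⟶ Y) (sq : IsPullback fst snd j f)
    (hj : RepWith @IsOpenImmersion j) (p : Points P) (h : HasAtMor Q fst p) :
    HasAtMor Q f (Points.map snd p) := by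
  obtain ⟨U, V', a, b, h', u, ha, hb, comm, hu, hQ⟩ := h
  have hje : RepWith @Etale j :=
    repWith_mono (fun _ _ g hg => by haveI : IsOpenImmersion g := hg; infer_instance) hj
  have hsnd : RepWith @Etale snd := (RepWith @Etale).of_isPullback sq hje
  refine ⟨U, V', a ≫ snd, b ≫ j, h', u, (RepWith @Etale).comp_mem _ _ ha hsnd,
    (RepWith @Etale).comp_mem _ _ hb hje, ?_, ?_, hQ⟩
  · rw [Category.assoc, ← sq.w, ← Category.assoc, comm, Category.assoc]
  · rw [← Points.map_ofPt, hu]

end Groth.Agent.Helper19.GenFib
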