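import Groth.Agent.Lib.Helper19.GenFib.Unique
import Groth.Prelude.Def_AlgSp4

/-!
# Generic points of integral spaces and dominant morphisms
-/

set_option autoImplicit false
set_option linter.style.haveILetI false
universe u
open CategoryTheory CategoryTheory.Limits AlgebraicGeometry TopologicalSpace
open AlgSp Groth.Agent.Helper15

namespace Groth.Agent.Helper19.GenFib

variable {S : Scheme.{u}}

/-- a dominant morphism maps a generic point of the source to a generic point of the target -/
theorem isGenericPoint_map {X Y : Sp S} (f : X ⟶ Y) (hd : IsDominantMor f) (x : Points X)
    (hx : IsGenericPoint x (Set.univ : Set (Points X))) :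
    IsGenericPoint (Points.map f x) (Set.univ : Set (Points Y)) := by
  have h1 : Set.range (Points.map f) ⊆ closure {Points.map f x} := by
    rintro _ ⟨x', rfl⟩
    have h2 : x' ∈ closure ({x} : Set (Points X)) := by
      rw [hx.def]; exact Set.mem_univ _
    have h3 := image_closure_subset_closure_image (Points.continuous_map f)
      (Set.mem_image_of_mem _ h2)
    rwa [Set.image_singleton] at h3
  have h4 : closure (Set.range (Points.map f)) ⊆ closure {Points.map f x} :=
    closure_minimal h1 isClosed_closure
  apply Set.eq_univ_of_forall
  intro y
  exact h4 (hd y)

/-- the image of the generic point of an integral space under a dominant morphism to an integral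
(decent) space is the generic point -/
theorem map_generic_eq {X Y : Sp S} (hYa : IsAlgSpace Y) (hY : IsDecent Y) (f : X ⟶ Y)
    (hd : IsDominantMor f) (x : Points X) (hx : IsGenericPoint x (Set.univ : Set (Points X)))
    (y : Points Y) (hy : IsGenericPoint y (Set.univ : Set (Points Y))) : Points.map f x = y := by
  haveI := t0Space_points_of_isDecent hYa hY
  exact (isGenericPoint_map f hd x hx).eq hy

/-- a generic point of a `T₀` space of points has no proper generization -/
theorem eq_of_specializes_generic {X : Sp S} (hXa : IsAlgSpace X) (hX : IsDecent X) (x : Points X)
    (hx : IsGenericPoint x (Set.univ : Set (Points X))) (x' : Points X) (h : x' ⤳ x) : x' = x := by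
  haveI := t0Space_points_of_isDecent hXa hX
  exact (h.antisymm (hx.specializes (Set.mem_univ _))).eq

end Groth.Agent.Helper19.GenFib
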