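import Groth.Agent.Lib.Helper19.QfCodim.Variants
import Groth.Agent.Lib.Helper19.FibBC.Pair
import Groth.Agent.Lib.Helper19.DimProper.Sp
import Groth.Agent.Lib.Helper15.FibDim0
import Groth.Agent.Lib.Helper16.Sch.QFCodim
import Groth.Agent.Lib.Helper14.FibreGeneric
import Groth.Agent.Lib.Helper14.ResFieldBridge

/-!
# The generic fibre of a dominant morphism of integral decent spaces: one point iff trdeg zero
-/

set_option autoImplicit false
set_option linter.style.haveILetI false
universe u
open CategoryTheory CategoryTheory.Limits AlgebraicGeometry TopologicalSpace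
open AlgSp Groth.Agent.Helper15

namespace Groth.Agent.Helper19.GenFib

variable {S : Scheme.{u}}

/-- transcendence degree zero at a generic point: it is the only point of its fibre -/
theorem unique_of_trdeg_zero {X Y : Sp S} (hXa : IsAlgSpace X) (hYa : IsAlgSpace Y)
    (hX : IsDecent X) (hY : IsDecent Y) (f : X ⟶ Y) (hf : LocP @LocallyOfFiniteType f)
    (x : Points X) (hgen : ∀ x' : Points X, x ⤳ x')
    (h0 : HasAtMor (fun _ _ h u => Dual3.resTrdeg h u = 0) f x) :
    ∀ x' : Points X, Points.map f x' = Points.map f x → x' = x := by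
  intro x' hx'
  obtain ⟨U, V, a, b, h, u', ha, hb, comm, hu', hlft⟩ := Trdeg.exists_chart_at hXa hYa f hf x'
  haveI : LocallyOfFiniteType h.left := hlft
  obtain ⟨u, hsu, hu⟩ := exists_specializes_lift_of_isDecent hX a ha u' x (hu' ▸ hgen x')
  have hbu : ∀ w : U.left, Points.ofPt b (h.left w) = Points.map f (Points.ofPt a w) := by
    intro w
    rw [Points.map_ofPt, comm, ofPt_comp_yon_map]
  have hv : h.left u = h.left u' := by
    have he : Points.ofPt b (h.left u') = Points.ofPt b (h.left u) := by
      rw [hbu, hbu, hu', hu, hx']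
    exact (eq_of_specializes_of_ofPt_eq_of_isDecent hY b hb (h.left u') (h.left u) he
      (hsu.map h.left.continuous)).symm
  have htr : Dual3.resTrdeg h.left u = 0 :=
    Trdeg.hasAtMor_resTrdeg_unique f x _ _ ⟨U, V, a, b, h, u, ha, hb, comm, hu, rfl⟩ h0
  have huu' : u = u' := by
    by_contra hne
    have := FibBC.toNat_resTrdeg_lt_of_specializes h.left hsu hne hv
    rw [htr] at this
    simp at this
  rw [← hu', ← huu', hu]

/-- if `x` is the only point of its fibre then the transcendence degree at `x` is zero -/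
theorem trdeg_zero_of_unique {X Y : Sp S} (hXa : IsAlgSpace X) (hYa : IsAlgSpace Y)
    (hX : IsDecent X) (f : X ⟶ Y) (hf : LocP @LocallyOfFiniteType f) (x : Points X)
    (huniq : ∀ x' : Points X, Points.map f x' = Points.map f x → x' = x) :
    HasAtMor (fun _ _ h u => Dual3.resTrdeg h u = 0) f x := by
  obtain ⟨U, V, a, b, h, u, ha, hb, comm, hu, hlft⟩ := Trdeg.exists_chart_at hXa hYa f hf x
  haveI : LocallyOfFiniteType h.left := hlft
  obtain ⟨r, hr⟩ := Groth.Agent.Helper14.ResFieldBridge.exists_nat_trdeg_residueField h.left u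
  have hr' : Dual3.resTrdeg h.left u = (r : Cardinal.{u}) := hr
  refine ⟨U, V, a, b, h, u, ha, hb, comm, hu, ?_⟩
  change Dual3.resTrdeg h.left u = 0
  rw [hr']
  rcases Nat.eq_zero_or_pos r with h0 | hpos
  · rw [h0]; rfl
  exfalso
  obtain ⟨c, hc, hch⟩ := DimProper.exists_chain_fibre h.left u r hr'
  have hbu : ∀ w : U.left, Points.map f (Points.ofPt a w) = Points.ofPt b (h.left w) := by
    intro w
    rw [Points.map_ofPt, comm, ofPt_comp_yon_map]
  have hci : ∀ i, Points.ofPt a (c i) = x := by
    intro i
    apply huniq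
    rw [hbu, hch i, ← hbu, hu]
  have h01 : (0 : Fin (r + 1)) < ⟨1, by omega⟩ := by
    rw [Fin.lt_def]; simp
  obtain ⟨hs, hne⟩ := hc 0 ⟨1, by omega⟩ h01
  exact hne (eq_of_specializes_of_ofPt_eq_of_isDecent hX a ha (c 0) (c ⟨1, by omega⟩)
    ((hci 0).trans (hci _).symm) hs)

/-- transcendence degree zero at a point without proper generizations implies quasi-finite there -/
theorem qfAt_of_trdeg_zero_of_maximal {X Y : Sp S} (hX : IsDecent X) (f : X ⟶ Y)
    (hf : LocP @LocallyOfFiniteType f) (x : Points X)
    (hmax : ∀ x' : Points X, x' ⤳ x → x' = x)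
    (h0 : HasAtMor (fun _ _ h u => Dual3.resTrdeg h u = 0) f x) :
    HasAtMor (fun U _ h u => ∃ W : U.Opens, u ∈ W ∧ LocallyQuasiFinite (W.ι ≫ h) ∧
      LocallyOfFiniteType (W.ι ≫ h)) f x := by
  obtain ⟨U, V, a, b, h, u, ha, hb, comm, hu, htr⟩ := h0
  haveI : LocallyOfFiniteType h.left := hf a b h ha hb comm
  refine ⟨U, V, a, b, h, u, ha, hb, comm, hu, ?_⟩
  have humax : ∀ u'' : U.left, u'' ⤳ u → u'' = u := by
    intro u'' hs
    have h1 : Points.ofPt a u'' ⤳ x := hu ▸ hs.map (Points.continuous_ofPt a)
    have h2 := hmax _ h1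
    exact (eq_of_specializes_of_ofPt_eq_of_isDecent hX a ha u u'' (hu.trans h2.symm) hs).symm
  -- the local ring of the fibre at `u` has dimension zero
  haveI : LocallyOfFiniteType (h.left.fiberToSpecResidueField (h.left u)) :=
    MorphismProperty.pullback_snd _ _ inferInstance
  haveI : IsLocallyNoetherian (h.left.fiber (h.left u)) :=
    LocallyOfFiniteType.isLocallyNoetherian (h.left.fiberToSpecResidueField (h.left u))
  have hstalk : ringKrullDim ↥((h.left.fiber (h.left u)).presheaf.stalk (h.left.asFiber u)) = 0 := by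
    rw [ringKrullDim_stalk_eq_coheight]
    have : Order.coheight (h.left.asFiber u) = 0 := by
      rw [Order.coheight_eq_zero]
      intro t ht
      have hs : t ⤳ h.left.asFiber u := ht
      have h1 : h.left.fiberι (h.left u) t ⤳ u := by
        have := hs.map (h.left.fiberι (h.left u)).continuous
        rwa [h.left.fiberι_asFiber u] at this
      have h2 := humax _ h1
      have h3 : t = h.left.asFiber u := by
        apply (h.left.fiberι (h.left u)).isEmbedding.injective
        rw [h2, h.left.fiberι_asFiber u]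
      rw [h3]
    rw [this]; rfl
  have hfd := Groth.Agent.Helper14.FibreGeneric.fibreDimAt_eq_stalk_add_trdeg h.left u 0
    (by exact_mod_cast htr)
  rw [hstalk] at hfd
  have hq : h.left.QuasiFiniteAt u :=
    (FibDim.fibreDimAt_eq_zero_iff_quasiFiniteAt h.left u).mp (by rw [hfd]; simp)
  exact (Groth.Agent.Helper16.QFCodim.quasiFiniteAt_iff_exists_opens h.left u).mp hq

end Groth.Agent.Helper19.GenFib
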